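import Cfsg.Agent.LargeExtra.Coprime

/-!
# The centralizer of a transvection in the special linear group over the field with two elements
-/

set_option autoImplicit false
set_option linter.style.haveILetI false
set_option linter.unusedSectionVars false

open Subgroup Matrix
open scoped commutatorElement

namespace Cfsg.Lib.LargeExtra.Transvection

theorem zmod_two_cases : ∀ a : ZMod 2, a = 0 ∨ a = 1 := by decide

theorem two_self : ∀ x : ZMod 2, x + x = 0 := by decide

theorem units_two : ∀ u : (ZMod 2)ˣ, u = 1 := by decide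

/-- Over two elements an invertible matrix has determinant one. -/
def toSL (m : ℕ) : GL (Fin m) (ZMod 2) ≃* SpecialLinearGroup (Fin m) (ZMod 2) where
  toFun A := ⟨A.1, congrArg Units.val (units_two (GeneralLinearGroup.det A))⟩
  invFun A := SpecialLinearGroup.toGL A
  left_inv A := Units.ext rfl
  right_inv A := Subtype.ext rfl
  map_mul' A B := Subtype.ext rfl

theorem normal_two_subgroup_eq_bot {n : ℕ} (N : Subgroup (GL (Fin n) (ZMod 2))) [N.Normal]
    (hN : IsPGroup 2 N) : N = ⊥ := by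
  classical
  haveI : Fact (Nat.Prime 2) := ⟨Nat.prime_two⟩
  rcases Nat.eq_zero_or_pos n with rfl | hn
  · exact (eq_bot_iff_forall _).mpr fun g _ => Units.ext (Subsingleton.elim _ _)
  letI : MulAction N (Fin n → ZMod 2) :=
    { smul := fun A v => (A.1.1 : Matrix (Fin n) (Fin n) (ZMod 2)) *ᵥ v
      one_smul := fun v => Matrix.one_mulVec v
      mul_smul := fun A B v => (Matrix.mulVec_mulVec v _ _).symm }
  set F : Set (Fin n → ZMod 2) := {v | ∀ A ∈ N, (A.1 : Matrix (Fin n) (Fin n) (ZMod 2)) *ᵥ v = v} with hF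
  have hzero : (0 : Fin n → ZMod 2) ∈ MulAction.fixedPoints N (Fin n → ZMod 2) := fun A => Matrix.mulVec_zero _
  obtain ⟨v, hv, hv0⟩ := hN.exists_fixed_point_of_prime_dvd_card_of_fixed_point (Fin n → ZMod 2)
    (by rw [Nat.card_fun, Nat.card_zmod, Nat.card_fin]; exact dvd_pow_self 2 (by omega)) hzero
  have hvF : v ∈ F := fun A hA => hv ⟨A, hA⟩
  have hadd : ∀ a ∈ F, ∀ b ∈ F, a + b ∈ F := fun a ha b hb A hA => by
    rw [Matrix.mulVec_add, ha A hA, hb A hA]
  have hinv : ∀ (B : GL (Fin n) (ZMod 2)), ∀ w ∈ F, (B.1 : Matrix (Fin n) (Fin n) (ZMod 2)) *ᵥ w ∈ F := by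
    intro B w hw A hA
    have h1 := hw (B⁻¹ * A * B) (by simpa using Normal.conj_mem inferInstance A hA B⁻¹)
    have h2 := congrArg (fun u => (B.1 : Matrix (Fin n) (Fin n) (ZMod 2)) *ᵥ u) h1
    simp only [Matrix.mulVec_mulVec, ← Units.val_mul, ← mul_assoc, mul_inv_cancel, one_mul] at h2
    rwa [Units.val_mul, ← Matrix.mulVec_mulVec] at h2
  obtain ⟨l, hl⟩ : ∃ l, v l = 1 := by
    by_contra h
    push Not at h
    exact hv0 (funext fun i => ((zmod_two_cases (v i)).resolve_right (h i)).symm)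
  have hmove : ∀ k, k ≠ l → ∀ w ∈ F, w + Pi.single k (w l) ∈ F := fun k hk w hw => by
    have hdet : (Matrix.transvection k l (1 : ZMod 2)).det = 1 := Matrix.det_transvection_of_ne k l hk 1
    have := hinv (SpecialLinearGroup.toGL ⟨Matrix.transvection k l (1 : ZMod 2), hdet⟩) w hw
    have e : Matrix.transvection k l (1 : ZMod 2) *ᵥ w = w + Pi.single k (w l) := by
      rw [Matrix.transvection, Matrix.add_mulVec, Matrix.one_mulVec, Matrix.single_mulVec]
      simp
      rfl
    rw [← e]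
    exact this
  have htwo : ∀ x : ZMod 2, x + x = 0 := two_self
  have hne : ∀ k, k ≠ l → Pi.single k (1 : ZMod 2) ∈ F := fun k hk => by
    have := hadd _ (hmove k hk v hvF) _ hvF
    rwa [hl, add_comm v, add_assoc, show v + v = 0 from funext fun i => htwo (v i), add_zero] at this
  have hall : ∀ k, Pi.single k (1 : ZMod 2) ∈ F := fun k => by
    by_cases hk : k = l
    · subst hk
      have hs : ∀ s : Finset (Fin n), (∀ i ∈ s, i ≠ k) → ∑ i ∈ s, Pi.single i (v i) ∈ F := fun s hs => by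
        refine Finset.sum_induction _ (· ∈ F) (fun a b ha hb => hadd a ha b hb) (fun A _ => Matrix.mulVec_zero _) ?_
        intro i hi
        rcases zmod_two_cases (v i) with e | e
        · rw [e, Pi.single_zero]; exact fun A _ => Matrix.mulVec_zero _
        · rw [e]; exact hne i (hs i hi)
      have := hadd _ hvF _ (hs (Finset.univ.erase k) fun i hi => Finset.ne_of_mem_erase hi)
      convert this using 1
      funext j
      rw [Pi.add_apply, Finset.sum_apply]
      rcases eq_or_ne j k with rfl | hj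
      · rw [Finset.sum_eq_zero fun i hi => Pi.single_eq_of_ne (Finset.ne_of_mem_erase hi).symm _, Pi.single_eq_same,
          add_zero, hl]
      · rw [Pi.single_eq_of_ne hj, Finset.sum_eq_single j (fun i _ hi => Pi.single_eq_of_ne hi.symm _)
          (fun h => absurd (Finset.mem_erase.mpr ⟨hj, Finset.mem_univ j⟩) h), Pi.single_eq_same]
        exact (htwo (v j)).symm
    · exact hne k hk
  refine (eq_bot_iff_forall _).mpr fun A hA => Units.ext ?_
  refine Matrix.ext_of_mulVec_single fun k => ?_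
  rw [Units.val_one, Matrix.one_mulVec]
  exact hall k A hA

variable {n : ℕ}

/-- The ambient group. -/
abbrev SLn (n : ℕ) : Type := SpecialLinearGroup (Fin (n + 2)) (ZMod 2)

theorem sl_mul (g h : SLn n) : (g * h).1 = g.1 * h.1 := rfl

theorem sl_one : (1 : SLn n).1 = 1 := rfl

/-- The index of the middle block. -/
def mid (i : Fin n) : Fin (n + 2) := i.succ.succ

theorem idx_cases (j : Fin (n + 2)) : j = 0 ∨ j = 1 ∨ ∃ i, j = mid i := by
  refine Fin.cases (Or.inl rfl) (fun j => ?_) j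
  refine Fin.cases (Or.inr (Or.inl rfl)) (fun i => Or.inr (Or.inr ⟨i, rfl⟩)) j

theorem sum_idx (f : Fin (n + 2) → ZMod 2) : ∑ j, f j = f 0 + f 1 + ∑ i, f (mid i) := by
  simp only [Fin.sum_univ_succ, add_assoc]
  rfl

theorem mid_ne (i : Fin n) : mid i ≠ 0 ∧ mid i ≠ 1 := by
  refine ⟨Fin.succ_ne_zero _, fun h => Fin.succ_ne_zero i (Fin.succ_injective _ (h.trans ?_))⟩
  rfl

@[simp] theorem zero_ne_mid (i : Fin n) : (0 : Fin (n + 2)) ≠ mid i := (mid_ne i).1.symm

@[simp] theorem one_ne_mid (i : Fin n) : (1 : Fin (n + 2)) ≠ mid i := (mid_ne i).2.symm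

theorem mid_inj {i j : Fin n} : mid i = mid j ↔ i = j := by simp [mid]

/-- Fixing the centre and the axis. -/
def InC (g : SLn n) : Prop :=
  g.1 0 0 = 1 ∧ g.1 1 0 = 0 ∧ (∀ i, g.1 (mid i) 0 = 0) ∧ g.1 1 1 = 1 ∧ ∀ i, g.1 1 (mid i) = 0

/-- The base transvection. -/
def tz (n : ℕ) : SLn n := ⟨Matrix.transvection 0 1 1, Matrix.det_transvection_of_ne _ _ (by simp) _⟩

theorem tz_apply (i j : Fin (n + 2)) : (tz n).1 i j = (if i = j then 1 else 0) + if i = 0 ∧ j = 1 then 1 else 0 := by
  simp only [tz, Matrix.transvection, Matrix.add_apply, Matrix.one_apply, Matrix.single_apply]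
  congr 1
  exact if_congr ⟨fun h => ⟨h.1.symm, h.2.symm⟩, fun h => ⟨h.1.symm, h.2.symm⟩⟩ rfl rfl

theorem commute_tz (g : SLn n) : Commute g (tz n) ↔ InC g := by
  have h1 : ∀ i j, (g * tz n).1 i j = g.1 i j + if j = 1 then g.1 i 0 else 0 := fun i j => by
    simp [sl_mul, Matrix.mul_apply, tz_apply, mul_add, Finset.sum_add_distrib, ite_and]
  have h2 : ∀ i j, (tz n * g).1 i j = g.1 i j + if i = 0 then g.1 1 j else 0 := fun i j => by
    simp [sl_mul, Matrix.mul_apply, tz_apply, add_mul, Finset.sum_add_distrib, ite_and]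
  constructor
  · intro h
    have key : ∀ i j, (if j = 1 then g.1 i 0 else 0) = if i = 0 then g.1 1 j else 0 := fun i j => by
      have := congrFun (congrFun (congrArg Subtype.val h.eq) i) j
      rw [h1, h2] at this
      exact add_left_cancel this
    have c1 : g.1 1 0 = 0 := by have := key 0 0; simp at this; exact this.symm
    have cm : ∀ i, g.1 (mid i) 0 = 0 := fun i => by have := key (mid i) 1; simp [(mid_ne i).1] at this; exact this
    have r1 : ∀ i, g.1 1 (mid i) = 0 := fun i => by have := key 0 (mid i); simp [(mid_ne i).2] at this; exact this.symm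
    have h00 : g.1 0 0 = 1 := by
      refine (zmod_two_cases _).resolve_left fun h0 => ?_
      have := Matrix.det_eq_zero_of_column_eq_zero (A := g.1) 0 fun i => by
        rcases idx_cases i with rfl | rfl | ⟨k, rfl⟩
        exacts [h0, c1, cm k]
      rw [g.2] at this
      exact one_ne_zero this
    have h11 : g.1 1 1 = 1 := by
      have := key 0 1
      simp at this
      rw [← this, h00]
    exact ⟨h00, c1, cm, h11, r1⟩
  · rintro ⟨h00, c1, cm, h11, r1⟩
    refine Subtype.ext (Matrix.ext fun i j => ?_)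
    rw [h1, h2]
    congr 1
    rcases idx_cases i with rfl | rfl | ⟨k, rfl⟩ <;> rcases idx_cases j with rfl | rfl | ⟨l, rfl⟩ <;>
      simp [h00, c1, cm, h11, r1, (mid_ne _).1, (mid_ne _).2]

/-- The middle block. -/
def block (g : SLn n) : Matrix (Fin n) (Fin n) (ZMod 2) := Matrix.of fun i j => g.1 (mid i) (mid j)

theorem block_mul {g h : SLn n} (hg : InC g) (hh : InC h) : block (g * h) = block g * block h := by
  ext i j
  simp [block, sl_mul, Matrix.mul_apply, sum_idx, hg.2.2.1, hh.2.2.2.2]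

theorem block_one : block (1 : SLn n) = 1 := by
  ext i j
  simp [block, sl_one, Matrix.one_apply, mid_inj]

/-- The centralizer of the base transvection. -/
abbrev cz (n : ℕ) : Subgroup (SLn n) := centralizer ({tz n} : Set (SLn n))

theorem mem_cz {g : SLn n} : g ∈ cz n ↔ InC g :=
  (mem_centralizer_singleton_iff).trans (commute_tz g)

/-- The projection to the middle block. -/
noncomputable def proj (n : ℕ) : cz n →* GL (Fin n) (ZMod 2) :=
  MonoidHom.toHomUnits
    { toFun := fun g => block g.1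
      map_one' := block_one
      map_mul' := fun g h => block_mul (mem_cz.mp g.2) (mem_cz.mp h.2) }

theorem proj_eq_one {g : cz n} : proj n g = 1 ↔ block g.1 = 1 :=
  ⟨fun h => congrArg Units.val h, fun h => Units.ext h⟩

/-- The lifting of a middle block. -/
def liftMat (A : Matrix (Fin n) (Fin n) (ZMod 2)) : Matrix (Fin (n + 2)) (Fin (n + 2)) (ZMod 2) :=
  Matrix.of (Fin.cases (Pi.single 0 1) (Fin.cases (Pi.single 1 1) fun i => Fin.cases 0 (Fin.cases 0 fun j => A i j)))

theorem liftMat_apply (A : Matrix (Fin n) (Fin n) (ZMod 2)) :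
    (∀ j, liftMat A 0 j = if j = 0 then 1 else 0) ∧ (∀ j, liftMat A 1 j = if j = 1 then 1 else 0) ∧
    (∀ i, liftMat A (mid i) 0 = 0 ∧ liftMat A (mid i) 1 = 0) ∧ ∀ i j, liftMat A (mid i) (mid j) = A i j := by
  refine ⟨fun j => ?_, fun j => ?_, fun i => ⟨rfl, rfl⟩, fun i j => rfl⟩
  · show (Pi.single 0 1 : Fin (n + 2) → ZMod 2) j = _
    rw [Pi.single_apply]
  · show (Pi.single 1 1 : Fin (n + 2) → ZMod 2) j = _
    rw [Pi.single_apply]

theorem liftMat_mul (A B : Matrix (Fin n) (Fin n) (ZMod 2)) : liftMat (A * B) = liftMat A * liftMat B := by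
  obtain ⟨a0, a1, am, aa⟩ := liftMat_apply A
  obtain ⟨b0, b1, bm, bb⟩ := liftMat_apply B
  obtain ⟨c0, c1, cm, cc⟩ := liftMat_apply (A * B)
  ext i j
  rw [Matrix.mul_apply, sum_idx]
  rcases idx_cases i with rfl | rfl | ⟨k, rfl⟩ <;> rcases idx_cases j with rfl | rfl | ⟨l, rfl⟩ <;>
    simp [a0, a1, am, aa, b0, b1, bm, bb, c0, c1, cm, cc, Matrix.mul_apply, (mid_ne _).1, (mid_ne _).2]

theorem liftMat_one : liftMat (1 : Matrix (Fin n) (Fin n) (ZMod 2)) = 1 := by
  obtain ⟨a0, a1, am, aa⟩ := liftMat_apply (1 : Matrix (Fin n) (Fin n) (ZMod 2))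
  ext i j
  rcases idx_cases i with rfl | rfl | ⟨k, rfl⟩ <;> rcases idx_cases j with rfl | rfl | ⟨l, rfl⟩ <;>
    simp [a0, a1, am, aa, Matrix.one_apply, mid_inj, (mid_ne _).1, (mid_ne _).2, eq_comm]

/-- The complement. -/
noncomputable def sect (n : ℕ) : GL (Fin n) (ZMod 2) →* SLn n :=
  (toSL (n + 2)).toMonoidHom.comp (Units.map
    { toFun := liftMat, map_one' := liftMat_one, map_mul' := liftMat_mul })

theorem sect_apply (A : GL (Fin n) (ZMod 2)) : (sect n A).1 = liftMat A.1 := rfl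

theorem sect_mem (A : GL (Fin n) (ZMod 2)) : sect n A ∈ cz n := by
  obtain ⟨a0, a1, am, -⟩ := liftMat_apply A.1
  rw [mem_cz, InC, sect_apply]
  exact ⟨by simp [a0], by simp [a1], fun i => (am i).1, by simp [a1], fun i => by simp [a1, (mid_ne i).2]⟩

theorem proj_sect (A : GL (Fin n) (ZMod 2)) : proj n ⟨sect n A, sect_mem A⟩ = A := by
  refine Units.ext (Matrix.ext fun i j => ?_)
  exact (liftMat_apply A.1).2.2.2 i j

/-- The radical, as a subgroup of the ambient group. -/
noncomputable def radical (n : ℕ) : Subgroup (SLn n) := (proj n).ker.map (cz n).subtype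

theorem mem_radical {g : SLn n} : g ∈ radical n ↔ InC g ∧ block g = 1 := by
  refine ⟨?_, fun ⟨h1, h2⟩ => ⟨⟨g, mem_cz.mpr h1⟩, proj_eq_one.mpr h2, rfl⟩⟩
  rintro ⟨x, hx, rfl⟩
  exact ⟨mem_cz.mp x.2, proj_eq_one.mp hx⟩

/-- The three coordinates of an element of the radical. -/
def va (g : SLn n) : Fin n → ZMod 2 := fun i => g.1 0 (mid i)
/-- The second coordinate. -/
def vb (g : SLn n) : Fin n → ZMod 2 := fun i => g.1 (mid i) 1
/-- The central coordinate. -/
def vc (g : SLn n) : ZMod 2 := g.1 0 1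

theorem radical_ext {g h : SLn n} (hg : g ∈ radical n) (hh : h ∈ radical n) (ha : va g = va h) (hb : vb g = vb h)
    (hc : vc g = vc h) : g = h := by
  obtain ⟨⟨g00, g10, gm0, g11, g1m⟩, gb⟩ := mem_radical.mp hg
  obtain ⟨⟨h00, h10, hm0, h11, h1m⟩, hb'⟩ := mem_radical.mp hh
  refine Subtype.ext (Matrix.ext fun i j => ?_)
  rcases idx_cases i with rfl | rfl | ⟨k, rfl⟩ <;> rcases idx_cases j with rfl | rfl | ⟨l, rfl⟩
  exacts [g00.trans h00.symm, hc, congrFun ha l, g10.trans h10.symm, g11.trans h11.symm, (g1m l).trans (h1m l).symm,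
    (gm0 k).trans (hm0 k).symm, congrFun hb k, congrFun (congrFun (gb.trans hb'.symm) k) l]

theorem radical_mul {g h : SLn n} (hg : g ∈ radical n) (hh : h ∈ radical n) :
    va (g * h) = va g + va h ∧ vb (g * h) = vb g + vb h ∧ vc (g * h) = vc g + vc h + va g ⬝ᵥ vb h := by
  obtain ⟨⟨g00, g10, gm0, g11, g1m⟩, gb⟩ := mem_radical.mp hg
  obtain ⟨⟨h00, h10, hm0, h11, h1m⟩, hb⟩ := mem_radical.mp hh
  have gb' : ∀ i j, g.1 (mid i) (mid j) = if i = j then 1 else 0 := fun i j => by
    rw [show g.1 (mid i) (mid j) = block g i j from rfl, gb, Matrix.one_apply]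
  have hb' : ∀ i j, h.1 (mid i) (mid j) = if i = j then 1 else 0 := fun i j => by
    rw [show h.1 (mid i) (mid j) = block h i j from rfl, hb, Matrix.one_apply]
  refine ⟨funext fun i => ?_, funext fun i => ?_, ?_⟩
  · simp [va, sl_mul, Matrix.mul_apply, sum_idx, g00, h1m, hb', add_comm]
  · simp [vb, sl_mul, Matrix.mul_apply, sum_idx, gm0, h11, gb', add_comm]
  · simp [va, vb, vc, sl_mul, Matrix.mul_apply, sum_idx, g00, h11, dotProduct]
    ring

/-- The matrix with given coordinates. -/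
def radMat (a b : Fin n → ZMod 2) (c : ZMod 2) : Matrix (Fin (n + 2)) (Fin (n + 2)) (ZMod 2) :=
  Matrix.of (Fin.cases (Fin.cons 1 (Fin.cons c a)) (Fin.cases (Pi.single 1 1) fun i =>
    Fin.cases 0 (Fin.cases (b i) fun j => if i = j then 1 else 0)))

theorem radMat_apply (a b : Fin n → ZMod 2) (c : ZMod 2) :
    radMat a b c 0 0 = 1 ∧ radMat a b c 0 1 = c ∧ (∀ i, radMat a b c 0 (mid i) = a i) ∧
    (∀ j, radMat a b c 1 j = if j = 1 then 1 else 0) ∧
    ∀ i, radMat a b c (mid i) 0 = 0 ∧ radMat a b c (mid i) 1 = b i ∧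
      ∀ j, radMat a b c (mid i) (mid j) = if i = j then 1 else 0 := by
  refine ⟨rfl, rfl, fun i => ?_, fun j => ?_, fun i => ⟨rfl, rfl, fun j => rfl⟩⟩
  · show (Fin.cons 1 (Fin.cons c a) : Fin (n + 2) → ZMod 2) i.succ.succ = a i
    rw [Fin.cons_succ, Fin.cons_succ]
  · show (Pi.single 1 1 : Fin (n + 2) → ZMod 2) j = _
    rw [Pi.single_apply]

theorem radMat_mul_inv (a b : Fin n → ZMod 2) (c c' : ZMod 2) (hc : c + c' + a ⬝ᵥ b = 0) :
    radMat a b c * radMat a b c' = 1 := by
  obtain ⟨p00, p01, p0, p1, pm⟩ := radMat_apply a b c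
  obtain ⟨q00, q01, q0, q1, qm⟩ := radMat_apply a b c'
  ext i j
  rw [Matrix.mul_apply, sum_idx]
  have two : ∀ x : ZMod 2, x + x = 0 := by decide
  rcases idx_cases i with rfl | rfl | ⟨k, rfl⟩ <;> rcases idx_cases j with rfl | rfl | ⟨l, rfl⟩ <;>
    simp [p00, p01, p0, p1, pm, q00, q01, q0, q1, qm, (mid_ne _).1, (mid_ne _).2, Matrix.one_apply, mid_inj,
      two, eq_comm]
  simp only [dotProduct] at hc
  linear_combination -hc

/-- The element with given coordinates. -/
noncomputable def radElt (a b : Fin n → ZMod 2) (c : ZMod 2) : SLn n :=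
  ⟨radMat a b c, (zmod_two_cases _).resolve_left fun h => by
    have := congrArg Matrix.det (radMat_mul_inv a b c (c + a ⬝ᵥ b) (by
      linear_combination (show ∀ x : ZMod 2, x + x = 0 by decide) c + (show ∀ x : ZMod 2, x + x = 0 by decide) (a ⬝ᵥ b)))
    rw [Matrix.det_mul, h, zero_mul, Matrix.det_one] at this
    exact zero_ne_one this⟩

theorem radElt_spec (a b : Fin n → ZMod 2) (c : ZMod 2) :
    radElt a b c ∈ radical n ∧ va (radElt a b c) = a ∧ vb (radElt a b c) = b ∧ vc (radElt a b c) = c := by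
  obtain ⟨p00, p01, p0, p1, pm⟩ := radMat_apply a b c
  refine ⟨mem_radical.mpr ⟨⟨p00, ?_, fun i => (pm i).1, ?_, fun i => ?_⟩, ?_⟩, funext p0, funext fun i => (pm i).2.1, p01⟩
  · show radMat a b c 1 0 = 0
    simp [p1]
  · show radMat a b c 1 1 = 1
    simp [p1]
  · show radMat a b c 1 (mid i) = 0
    simp [p1, (mid_ne i).2]
  · ext i j
    show radMat a b c (mid i) (mid j) = _
    rw [(pm i).2.2, Matrix.one_apply]

theorem tz_eq : tz n = radElt 0 0 1 := by
  obtain ⟨p00, p01, p0, p1, pm⟩ := radMat_apply (0 : Fin n → ZMod 2) 0 1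
  refine Subtype.ext (Matrix.ext fun i j => ?_)
  show (tz n).1 i j = radMat 0 0 1 i j
  rcases idx_cases i with rfl | rfl | ⟨k, rfl⟩ <;> rcases idx_cases j with rfl | rfl | ⟨l, rfl⟩ <;>
    simp [tz_apply, p00, p01, p0, p1, pm, mid_inj, (mid_ne _).1, (mid_ne _).2, eq_comm]

theorem tz_coords : va (tz n) = 0 ∧ vb (tz n) = 0 ∧ vc (tz n) = 1 := by
  rw [tz_eq]; exact (radElt_spec _ _ _).2

theorem tz_mem : tz n ∈ radical n := tz_eq ▸ (radElt_spec _ _ _).1

theorem one_coords : va (1 : SLn n) = 0 ∧ vb (1 : SLn n) = 0 ∧ vc (1 : SLn n) = 0 := by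
  refine ⟨funext fun i => ?_, funext fun i => ?_, ?_⟩ <;>
    simp [va, vb, vc, sl_one, Matrix.one_apply, (mid_ne _).1.symm, (mid_ne _).2]

theorem card_radical : Nat.card (radical n) = 2 ^ (2 * n + 1) := by
  let e : radical n ≃ ((Fin n → ZMod 2) × (Fin n → ZMod 2)) × ZMod 2 :=
    { toFun := fun g => ((va g.1, vb g.1), vc g.1)
      invFun := fun p => ⟨radElt p.1.1 p.1.2 p.2, (radElt_spec _ _ _).1⟩
      left_inv := fun g => Subtype.ext (radical_ext (radElt_spec _ _ _).1 g.2 (radElt_spec _ _ _).2.1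
        (radElt_spec _ _ _).2.2.1 (radElt_spec _ _ _).2.2.2)
      right_inv := fun p => by
        obtain ⟨-, ha, hb, hc⟩ := radElt_spec p.1.1 p.1.2 p.2
        exact Prod.ext (Prod.ext ha hb) hc }
  rw [Nat.card_congr e, Nat.card_prod, Nat.card_prod, Nat.card_fun, Nat.card_fin, Nat.card_zmod, pow_succ, two_mul,
    pow_add]

theorem sq_two (v : Fin n → ZMod 2) : v + v = 0 := funext fun i => by
  rcases zmod_two_cases (v i) with e | e <;> simp [e]; decide

theorem x2 (hn : 1 ≤ n) : X2 (radical n) (tz n) where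
  mem := tz_mem
  ne h := one_ne_zero ((tz_coords (n := n)).2.2.symm.trans (h ▸ one_coords.2.2))
  zz := by
    obtain ⟨ha, hb, hc⟩ := radical_mul (tz_mem (n := n)) tz_mem
    refine radical_ext (mul_mem tz_mem tz_mem) (one_mem _) ?_ ?_ ?_ <;>
      simp [ha, hb, hc, tz_coords.1, tz_coords.2.1, tz_coords.2.2, one_coords.1, one_coords.2.1, one_coords.2.2]
    decide
  isP := IsPGroup.of_card card_radical
  central q hq := (commute_tz q).mpr (mem_radical.mp hq).1
  comm a ha b hb := by
    have hab := mul_mem ha hb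
    have hba := mul_mem hb ha
    obtain ⟨a1, b1, c1⟩ := radical_mul ha hb
    obtain ⟨a2, b2, c2⟩ := radical_mul hb ha
    obtain ⟨a3, b3, c3⟩ := radical_mul (tz_mem (n := n)) hba
    by_cases hcc : vc (a * b) = vc (b * a)
    · refine Or.inl (commutatorElement_eq_one_iff_mul_comm.mpr (radical_ext hab hba ?_ ?_ hcc))
      · rw [a1, a2, add_comm]
      · rw [b1, b2, add_comm]
    · have : a * b = tz n * (b * a) := by
        refine radical_ext hab (mul_mem tz_mem hba) ?_ ?_ ?_
        · rw [a3, tz_coords.1, zero_add, a1, a2, add_comm]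
        · rw [b3, tz_coords.2.1, zero_add, b1, b2, add_comm]
        · rw [c3, tz_coords.1, tz_coords.2.2, zero_dotProduct, add_zero]
          exact (by decide : ∀ x y : ZMod 2, x ≠ y → x = 1 + y) _ _ hcc
      refine Or.inr ?_
      rw [commutatorElement_def, this]; group
  sq a ha := by
    obtain ⟨a1, b1, c1⟩ := radical_mul ha ha
    rcases zmod_two_cases (vc (a * a)) with e | e
    · exact Or.inl (radical_ext (mul_mem ha ha) (one_mem _) (by rw [a1, sq_two, one_coords.1])
        (by rw [b1, sq_two, one_coords.2.1]) (by rw [e, one_coords.2.2]))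
    · exact Or.inr (radical_ext (mul_mem ha ha) tz_mem (by rw [a1, sq_two, tz_coords.1])
        (by rw [b1, sq_two, tz_coords.2.1]) (by rw [e, tz_coords.2.2]))
  cen g hg hall := by
    have key : ∀ a b c, va g ⬝ᵥ b = a ⬝ᵥ vb g + 0 * c := fun a b c => by
      obtain ⟨hm, ha, hb, hc⟩ := radElt_spec a b c
      have h := congrArg vc (hall _ hm).eq
      rw [(radical_mul hm hg).2.2, (radical_mul hg hm).2.2, ha, hb, hc] at h
      linear_combination -h
    have ha : va g = 0 := funext fun i => by simpa using key 0 (Pi.single i 1) 0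
    have hb : vb g = 0 := funext fun i => by simpa using (key (Pi.single i 1) 0 0).symm
    rcases zmod_two_cases (vc g) with e | e
    · exact Or.inl (radical_ext hg (one_mem _) (ha.trans one_coords.1.symm) (hb.trans one_coords.2.1.symm)
        (e.trans one_coords.2.2.symm))
    · exact Or.inr (radical_ext hg tz_mem (ha.trans tz_coords.1.symm) (hb.trans tz_coords.2.1.symm)
        (e.trans tz_coords.2.2.symm))

theorem isExtraspecial (hn : 1 ≤ n) : Cfsg.IsExtraspecial 2 (radical n) := by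
  have h := x2 hn
  refine isExtraspecial_of h.isP h.mem h.ne h.zz h.central h.comm h.sq h.cen ?_
  refine ⟨_, (radElt_spec (Pi.single ⟨0, hn⟩ 1) 0 0).1, _, (radElt_spec 0 (Pi.single ⟨0, hn⟩ 1) 0).1, fun he => ?_⟩
  obtain ⟨m1, a1, b1, c1⟩ := radElt_spec (Pi.single (⟨0, hn⟩ : Fin n) (1 : ZMod 2)) 0 0
  obtain ⟨m2, a2, b2, c2⟩ := radElt_spec (0 : Fin n → ZMod 2) (Pi.single (⟨0, hn⟩ : Fin n) (1 : ZMod 2)) 0
  have h' := congrArg vc he.eq
  rw [(radical_mul m1 m2).2.2, (radical_mul m2 m1).2.2, a1, a2, b1, b2, c1, c2] at h'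
  simp at h'

theorem centralizer_radical (hn : 1 ≤ n) : centralizer (radical n : Set (SLn n)) ≤ zpowers (tz n) := by
  intro g hg
  have hc : InC g := (commute_tz g).mp (mem_centralizer_iff.mp hg _ tz_mem).symm
  have hblock : block g = 1 := by
    obtain ⟨g00, g10, gm0, g11, g1m⟩ := hc
    ext i j
    obtain ⟨hm, -⟩ := radElt_spec (Pi.single i 1) (0 : Fin n → ZMod 2) 0
    have h := congrFun (congrFun (congrArg Subtype.val (mem_centralizer_iff.mp hg _ hm)) 0) (mid j)
    obtain ⟨p00, p01, p0, p1, pm⟩ := radMat_apply (Pi.single i 1) (0 : Fin n → ZMod 2) 0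
    simp only [sl_mul, Matrix.mul_apply, sum_idx] at h
    simp only [radElt, p00, p01, p0, p1, (pm _).2.2, g00, g1m, (mid_ne j).2, if_false] at h
    simp [Pi.single_apply] at h
    rw [Matrix.one_apply]
    show g.1 (mid i) (mid j) = _
    rcases eq_or_ne i j with rfl | hij
    · rw [if_pos rfl]
      simp only [if_true] at h
      linear_combination h
    · rw [if_neg hij]
      simp only [hij.symm, if_false] at h
      linear_combination h
  have hgR : g ∈ radical n := mem_radical.mpr ⟨hc, hblock⟩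
  rcases (x2 hn).cen g hgR (fun a ha => mem_centralizer_iff.mp hg a ha) with e | e <;> rw [e]
  exacts [one_mem _, mem_zpowers _]

theorem radical_le : radical n ≤ cz n := map_subtype_le _

theorem le_normalizer_map {G : Type*} [Group G] {C : Subgroup G} (N : Subgroup C) [hN : N.Normal] :
    C ≤ normalizer (N.map C.subtype : Set G) := by
  intro c hc
  refine mem_normalizer_iff.mpr fun x => ⟨?_, fun hx => ?_⟩
  · rintro ⟨y, hy, rfl⟩
    refine ⟨⟨c, hc⟩ * y * ⟨c, hc⟩⁻¹, hN.conj_mem y hy _, ?_⟩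
    simp only [map_mul, map_inv, Subgroup.coe_subtype]
  · obtain ⟨y, hy, e⟩ := hx
    refine ⟨⟨c, hc⟩⁻¹ * y * ⟨c, hc⟩⁻¹⁻¹, hN.conj_mem y hy _, ?_⟩
    simp only [Subgroup.coe_subtype] at e
    simp only [map_mul, map_inv, Subgroup.coe_subtype]
    rw [e]
    group

theorem radical_normalized : cz n ≤ normalizer (radical n : Set (SLn n)) :=
  le_normalizer_map (proj n).ker

theorem core_eq : core (cz n) = radical n := by
  refine le_antisymm (Subgroup.map_mono ?_) (le_core radical_le ?_ radical_normalized)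
  · haveI : Fact (Nat.Prime 2) := ⟨Nat.prime_two⟩
    obtain ⟨hN, hP⟩ := Cfsg.Lib.Components.pCore_normal_and_isPGroup (G := cz n) 2
    haveI := hN
    haveI : ((Cfsg.pCore 2 (cz n)).map (proj n)).Normal :=
      Subgroup.Normal.map inferInstance _ fun A => ⟨⟨sect n A, sect_mem A⟩, proj_sect A⟩
    have := normal_two_subgroup_eq_bot _ (hP.map (proj n))
    exact (Subgroup.map_eq_bot_iff _).mp this
  · exact IsPGroup.of_card card_radical

/-- The transvections with the base centre. -/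
def centreGroup (n : ℕ) : Subgroup (SLn n) where
  carrier := {g | g.1 0 0 = 1 ∧ ∀ i j, i ≠ 0 → g.1 i j = if i = j then 1 else 0}
  mul_mem' {g h} hg hh := by
    refine ⟨?_, fun i j hi => ?_⟩
    · rw [sl_mul, Matrix.mul_apply, Finset.sum_eq_single 0
        (fun k _ hk => by rw [hh.2 k 0 hk, if_neg hk, mul_zero]) (by simp), hg.1, hh.1, one_mul]
    · rw [sl_mul, Matrix.mul_apply, Finset.sum_eq_single i
        (fun k _ hk => by rw [hg.2 i k hi, if_neg hk.symm, zero_mul]) (by simp), hg.2 i i hi, if_pos rfl, one_mul,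
        hh.2 i j hi]
  one_mem' := ⟨by simp [sl_one], fun i j _ => by simp [sl_one, Matrix.one_apply]⟩
  inv_mem' {g} hg := by
    have e : (g⁻¹).1 * g.1 = 1 := congrArg Subtype.val (inv_mul_cancel g)
    have e' : g.1 * (g⁻¹).1 = 1 := congrArg Subtype.val (mul_inv_cancel g)
    have hrow : ∀ i j, i ≠ 0 → (g⁻¹).1 i j = if i = j then 1 else 0 := fun i j hi => by
      have := congrFun (congrFun e' i) j
      rw [Matrix.mul_apply, Finset.sum_eq_single i (fun k _ hk => by rw [hg.2 i k hi, if_neg hk.symm, zero_mul])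
        (by simp), hg.2 i i hi, if_pos rfl, one_mul, Matrix.one_apply] at this
      exact this
    refine ⟨?_, hrow⟩
    have := congrFun (congrFun e' 0) 0
    rw [Matrix.mul_apply, Finset.sum_eq_single 0 (fun k _ hk => by rw [hrow k 0 hk, if_neg hk, mul_zero]) (by simp),
      hg.1, one_mul, Matrix.one_apply, if_pos rfl] at this
    exact this

theorem centreGroup_iff {g : SLn n} : g ∈ centreGroup n ↔ g ∈ radical n ∧ vb g = 0 := by
  constructor
  · intro hg
    refine ⟨mem_radical.mpr ⟨⟨hg.1, by simp [hg.2], fun i => by simp [hg.2 _ _ (mid_ne i).1, (mid_ne i).1],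
      by simp [hg.2], fun i => by simp [hg.2, (mid_ne i).2.symm]⟩, ?_⟩, funext fun i => ?_⟩
    · ext i j
      show g.1 (mid i) (mid j) = _
      rw [hg.2 _ _ (mid_ne i).1, Matrix.one_apply]
      simp [mid_inj]
    · show g.1 (mid i) 1 = 0
      simp [hg.2 _ _ (mid_ne i).1, (mid_ne i).2]
  · rintro ⟨hg, hb⟩
    obtain ⟨⟨g00, g10, gm0, g11, g1m⟩, gb⟩ := mem_radical.mp hg
    refine ⟨g00, fun i j hi => ?_⟩
    rcases idx_cases i with rfl | rfl | ⟨k, rfl⟩
    · exact absurd rfl hi
    · rcases idx_cases j with rfl | rfl | ⟨l, rfl⟩ <;> simp [g10, g11, g1m, (mid_ne _).2.symm]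
    · rcases idx_cases j with rfl | rfl | ⟨l, rfl⟩
      · simp [gm0, (mid_ne k).1]
      · simp [show g.1 (mid k) 1 = 0 from congrFun hb k, (mid_ne k).2]
      · rw [show g.1 (mid k) (mid l) = block g k l from rfl, gb, Matrix.one_apply]
        simp [mid_inj]

theorem centreGroup_le : centreGroup n ≤ radical n := fun _ hg => (centreGroup_iff.mp hg).1

theorem centreGroup_elementary : Cfsg.IsElementaryAbelian 2 (centreGroup n) ∧
    Nat.card (centreGroup n) = 2 ^ (n + 1) := by
  refine ⟨⟨⟨⟨fun a b => Subtype.ext ?_⟩⟩, fun a ha => ?_⟩, ?_⟩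
  · obtain ⟨ha, ha'⟩ := centreGroup_iff.mp a.2
    obtain ⟨hb, hb'⟩ := centreGroup_iff.mp b.2
    obtain ⟨a1, b1, c1⟩ := radical_mul ha hb
    obtain ⟨a2, b2, c2⟩ := radical_mul hb ha
    show a.1 * b.1 = b.1 * a.1
    refine radical_ext (mul_mem ha hb) (mul_mem hb ha) (by rw [a1, a2, add_comm]) (by rw [b1, b2, add_comm]) ?_
    rw [c1, c2, ha', hb', dotProduct_zero, dotProduct_zero, add_comm (vc _)]
  · obtain ⟨ha, ha'⟩ := centreGroup_iff.mp ha
    obtain ⟨a1, b1, c1⟩ := radical_mul ha ha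
    rw [pow_two]
    refine radical_ext (mul_mem ha ha) (one_mem _) (by rw [a1, sq_two, one_coords.1])
      (by rw [b1, sq_two, one_coords.2.1]) ?_
    rw [c1, ha', dotProduct_zero, add_zero, one_coords.2.2]
    exact (by decide : ∀ x : ZMod 2, x + x = 0) _
  · let e : centreGroup n ≃ (Fin n → ZMod 2) × ZMod 2 :=
      { toFun := fun g => (va g.1, vc g.1)
        invFun := fun p => ⟨radElt p.1 0 p.2, centreGroup_iff.mpr ⟨(radElt_spec _ _ _).1, (radElt_spec _ _ _).2.2.1⟩⟩
        left_inv := fun g => Subtype.ext (radical_ext (radElt_spec _ _ _).1 (centreGroup_le g.2)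
          (radElt_spec _ _ _).2.1 ((radElt_spec _ _ _).2.2.1.trans (centreGroup_iff.mp g.2).2.symm)
          (radElt_spec _ _ _).2.2.2)
        right_inv := fun p => by
          obtain ⟨-, ha, -, hc⟩ := radElt_spec p.1 0 p.2
          exact Prod.ext ha hc }
    rw [Nat.card_congr e, Nat.card_prod, Nat.card_fun, Nat.card_fin, Nat.card_zmod, pow_succ]

theorem centreGroup_normalized {g : SLn n} (h0 : g.1 0 0 = 1) (hcol : ∀ i, i ≠ 0 → g.1 i 0 = 0) :
    g ∈ normalizer (centreGroup n : Set (SLn n)) := by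
  have key : ∀ c : SLn n, c.1 0 0 = 1 → (∀ i, i ≠ 0 → c.1 i 0 = 0) → ∀ x ∈ centreGroup n,
      c * x * c⁻¹ ∈ centreGroup n := by
    intro c c0 ccol x hx
    have hrow : ∀ i j, i ≠ 0 → (c * x).1 i j = c.1 i j := fun i j hi => by
      rw [sl_mul, Matrix.mul_apply, Finset.sum_eq_single j (fun k _ hk => by
        rcases eq_or_ne k 0 with rfl | hk0
        · rw [ccol i hi, zero_mul]
        · rw [hx.2 k j hk0, if_neg hk, mul_zero]) (by simp)]
      rcases eq_or_ne j 0 with rfl | hj
      · rw [hx.1, mul_one]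
      · rw [hx.2 j j hj, if_pos rfl, mul_one]
    have e : c.1 * (c⁻¹).1 = 1 := congrArg Subtype.val (mul_inv_cancel c)
    have e' : (c⁻¹).1 * c.1 = 1 := congrArg Subtype.val (inv_mul_cancel c)
    have hic : ∀ i, (c⁻¹).1 i 0 = if i = 0 then 1 else 0 := fun i => by
      have := congrFun (congrFun e' i) 0
      rw [Matrix.mul_apply, Finset.sum_eq_single 0 (fun k _ hk => by rw [ccol k hk, mul_zero]) (by simp), c0,
        mul_one, Matrix.one_apply] at this
      exact this
    refine ⟨?_, fun i j hi => ?_⟩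
    · rw [sl_mul, Matrix.mul_apply, Finset.sum_eq_single 0
        (fun k _ hk => by rw [hic k, if_neg hk, mul_zero]) (by simp), hic, if_pos rfl, mul_one,
        sl_mul, Matrix.mul_apply, Finset.sum_eq_single 0
        (fun k _ hk => by rw [hx.2 k 0 hk, if_neg hk, mul_zero]) (by simp), c0, hx.1, one_mul]
    · rw [sl_mul, Matrix.mul_apply]
      simp only [hrow i _ hi]
      rw [← Matrix.mul_apply, e, Matrix.one_apply]
  have e' : (g⁻¹).1 * g.1 = 1 := congrArg Subtype.val (inv_mul_cancel g)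
  have hi : ∀ i, (g⁻¹).1 i 0 = if i = 0 then 1 else 0 := fun i => by
    have := congrFun (congrFun e' i) 0
    rw [Matrix.mul_apply, Finset.sum_eq_single 0 (fun k _ hk => by rw [hcol k hk, mul_zero]) (by simp), h0,
      mul_one, Matrix.one_apply] at this
    exact this
  refine mem_normalizer_iff.mpr fun x => ⟨key g h0 hcol x, fun hx => ?_⟩
  have := key g⁻¹ (by rw [hi, if_pos rfl]) (fun i h => by rw [hi, if_neg h]) _ hx
  rwa [show g⁻¹ * (g * x * g⁻¹) * g⁻¹⁻¹ = x by group] at this

theorem isLarge (hn : 1 ≤ n) : Cfsg.IsLargeExtraspecial (radical n) := by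
  obtain ⟨z, hx, hc⟩ := exists_x2 (isExtraspecial hn)
  have hz : z = tz n := by
    rcases (x2 hn).cen z hx.mem (fun a ha => hx.central a ha) with e | e
    exacts [absurd e hx.ne, e]
  rw [hz] at hc
  have hC : centralizer (radical n : Set (SLn n)) = zpowers (tz n) :=
    le_antisymm (centralizer_radical hn) (zpowers_le.mpr (mem_centralizer_iff.mpr fun q hq => ((x2 hn).central q hq).eq))
  have hN : centralizer ({tz n} : Set (SLn n)) ≤ normalizer (radical n : Set (SLn n)) := radical_normalized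
  refine ⟨isExtraspecial hn, hC.trans hc.symm, ?_, fun K hK hQK => ?_⟩
  · rw [hc, Cfsg.Lib.Coprime.centralizer_zpowers]
    exact hN
  obtain ⟨hm, ha, hb, hcv⟩ := radElt_spec (Pi.single (⟨0, hn⟩ : Fin n) (1 : ZMod 2)) 0 0
  set b := radElt (Pi.single (⟨0, hn⟩ : Fin n) (1 : ZMod 2)) 0 0 with hbdef
  have hbA : b ∈ centreGroup n := centreGroup_iff.mpr ⟨hm, hb⟩
  refine large_of_two_subgroup (x2 hn) (hC.le.trans (zpowers_le.mpr tz_mem)) hN hm ?_ ?_ (N := centreGroup n)
    (IsPGroup.of_card centreGroup_elementary.2) (centreGroup_iff.mpr ⟨tz_mem, tz_coords.2.1⟩) ?_ hK hQK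
  · intro h
    have h0 : va b = 0 := by
      rcases (mem_zpowers_two (x2 hn).zz).mp h with e | e <;> rw [e]
      exacts [one_coords.1, tz_coords.1]
    rw [ha] at h0
    simpa using congrFun h0 ⟨0, hn⟩
  · rw [← pow_two]; exact centreGroup_elementary.1.2 b hbA
  · intro g hg
    have h := mem_centralizer_singleton_iff.mp hg
    obtain ⟨p00, p01, p0, p1, pm⟩ := radMat_apply (Pi.single (⟨0, hn⟩ : Fin n) (1 : ZMod 2)) (0 : Fin n → ZMod 2) 0
    have hcol : ∀ i, i ≠ 0 → g.1 i 0 = 0 := fun i hi => by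
      have h' := congrFun (congrFun (congrArg Subtype.val h) i) (mid ⟨0, hn⟩)
      rw [sl_mul, sl_mul, Matrix.mul_apply, Matrix.mul_apply,
        Finset.sum_eq_single i (f := fun k => b.1 i k * g.1 k (mid ⟨0, hn⟩))
          (fun k _ hk => by rw [hbA.2 i k hi, if_neg hk.symm, zero_mul]) (by simp),
        hbA.2 i i hi, if_pos rfl, one_mul, sum_idx] at h'
      simp [hbdef, radElt, p0, p1, pm, (mid_ne _).2, Pi.single_apply] at h'
      exact h'
    refine centreGroup_normalized ?_ hcol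
    refine (zmod_two_cases _).resolve_left fun h0 => ?_
    have := Matrix.det_eq_zero_of_column_eq_zero (A := g.1) 0 fun i => by
      rcases eq_or_ne i 0 with rfl | hi
      exacts [h0, hcol i hi]
    rw [g.2] at this
    exact one_ne_zero this

theorem split (n : ℕ) : (sect n).range ≤ cz n ∧ radical n ⊓ (sect n).range = ⊥ ∧
    radical n ⊔ (sect n).range = cz n ∧ Nonempty ((sect n).range ≃* GL (Fin n) (ZMod 2)) := by
  have hle : (sect n).range ≤ cz n := by rintro _ ⟨A, rfl⟩; exact sect_mem A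
  have hinj : Function.Injective (sect n) := fun A B h => by
    have h' : (⟨sect n A, sect_mem A⟩ : cz n) = ⟨sect n B, sect_mem B⟩ := Subtype.ext h
    rw [← proj_sect A, ← proj_sect B, h']
  refine ⟨hle, (eq_bot_iff_forall _).mpr ?_, le_antisymm (sup_le radical_le hle) fun g hg => ?_,
    ⟨(MonoidHom.ofInjective hinj).symm⟩⟩
  · rintro x ⟨⟨y, hy, hyx⟩, A, hA⟩
    have : y = ⟨sect n A, sect_mem A⟩ := Subtype.ext (hyx.trans hA.symm)
    rw [this] at hy
    rw [← hA, show A = 1 from (proj_sect A).symm.trans hy, map_one]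
  · have h : (⟨g, hg⟩ : cz n) * (⟨sect n (proj n ⟨g, hg⟩), sect_mem _⟩ : cz n)⁻¹ ∈ (proj n).ker := by
      rw [MonoidHom.mem_ker, map_mul, map_inv, proj_sect, mul_inv_cancel]
    have := mul_mem (mem_sup_left (T := (sect n).range) (mem_map_of_mem (cz n).subtype h))
      (mem_sup_right (S := radical n) (show sect n (proj n ⟨g, hg⟩) ∈ (sect n).range from ⟨_, rfl⟩))
    simp only [Subgroup.coe_subtype, coe_mul, coe_inv, inv_mul_cancel_right] at this
    exact this

theorem s5424 (n : ℕ) (hn : 1 ≤ n) (z : SLn n) (hz : z.1 = Matrix.transvection 0 1 1) (Q : Subgroup (SLn n))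
    (hQ : Q = core (centralizer ({z} : Set (SLn n)))) :
    Cfsg.IsExtraspecial 2 Q ∧ Nat.card Q = 2 ^ (2 * n + 1) ∧
      (∃ E : Subgroup (SLn n), E ≤ Q ∧ Cfsg.IsElementaryAbelian 2 E ∧ Nat.card E = 2 ^ (n + 1)) ∧
      Cfsg.IsLargeExtraspecial Q ∧
      ∃ K : Subgroup (SLn n), K ≤ centralizer ({z} : Set (SLn n)) ∧ Q ⊓ K = ⊥ ∧
        Q ⊔ K = centralizer ({z} : Set (SLn n)) ∧ Nonempty (K ≃* SpecialLinearGroup (Fin n) (ZMod 2)) := by
  obtain rfl : z = tz n := Subtype.ext hz
  rw [core_eq] at hQ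
  subst hQ
  obtain ⟨h1, h2, h3, ⟨e⟩⟩ := split n
  exact ⟨isExtraspecial hn, card_radical, ⟨centreGroup n, centreGroup_le, centreGroup_elementary⟩, isLarge hn,
    _, h1, h2, h3, ⟨e.trans (toSL n)⟩⟩

end Cfsg.Lib.LargeExtra.Transvection
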