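import Cfsg.Agent.LargeExtra.Transvection.Basic

/-!
# The affine group inside the special linear group over the field with two elements
-/

set_option autoImplicit false
set_option linter.style.haveILetI false
set_option linter.unusedSectionVars false

open Subgroup Matrix
open scoped commutatorElement

namespace Cfsg.Lib.LargeExtra.Transvection

variable {n : ℕ}

theorem add_self_vec {m : ℕ} (v : Fin m → ZMod 2) : v + v = 0 := funext fun i => two_self (v i)

/-- Moving a vector with first coordinate one to the first unit vector. -/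
def shear (d : Fin (n + 1) → ZMod 2) (hd : d 0 = 0) : (Fin (n + 1) → ZMod 2) ≃+ (Fin (n + 1) → ZMod 2) where
  toFun w := w + w 0 • d
  invFun w := w + w 0 • d
  left_inv w := by simp [hd, add_assoc, add_self_vec]
  right_inv w := by simp [hd, add_assoc, add_self_vec]
  map_add' a b := by simp only [Pi.add_apply, add_smul]; abel

/-- Exchanging two coordinates. -/
def swapCoord (i : Fin (n + 1)) : (Fin (n + 1) → ZMod 2) ≃+ (Fin (n + 1) → ZMod 2) where
  toFun w := w ∘ Equiv.swap 0 i
  invFun w := w ∘ Equiv.swap 0 i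
  left_inv w := by funext j; simp
  right_inv w := by funext j; simp
  map_add' _ _ := rfl

theorem exists_coords {U : Type*} [Group U] [Finite U] (hc : ∀ a b : U, a * b = b * a) (h2 : ∀ a : U, a * a = 1)
    (hcard : Nat.card U = 2 ^ (n + 1)) {z : U} (hz : z ≠ 1) :
    ∃ ι : U ≃* Multiplicative (Fin (n + 1) → ZMod 2), ι z = Multiplicative.ofAdd (Pi.single 0 1) := by
  classical
  haveI : Fact (Nat.Prime 2) := ⟨Nat.prime_two⟩
  letI : CommGroup U := { (inferInstance : Group U) with mul_comm := hc }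
  letI : Module (ZMod 2) (Additive U) := AddCommGroup.zmodModule fun x => by
    show 2 • x = 0
    rw [two_nsmul]
    exact congrArg Additive.ofMul (h2 x.toMul)
  have hfr : Module.finrank (ZMod 2) (Additive U) = n + 1 := by
    have h := Module.natCard_eq_pow_finrank (K := ZMod 2) (V := Additive U)
    rw [show Nat.card (Additive U) = Nat.card U from Nat.card_congr Additive.toMul, hcard, Nat.card_zmod] at h
    exact (Nat.pow_right_injective (le_refl 2) h).symm
  let L : Additive U ≃ₗ[ZMod 2] (Fin (n + 1) → ZMod 2) :=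
    (Module.finBasisOfFinrankEq (ZMod 2) (Additive U) hfr).equivFun
  set v := L (Additive.ofMul z) with hv
  obtain ⟨i, hi⟩ : ∃ i, v i = 1 := by
    by_contra h
    push Not at h
    have h0 : v = 0 := funext fun i => (zmod_two_cases (v i)).resolve_right (h i)
    exact hz (Additive.ofMul.injective (L.map_eq_zero_iff.mp (hv ▸ h0)))
  set v' := swapCoord i v with hv'
  have hv'0 : v' 0 = 1 := by show v (Equiv.swap 0 i 0) = 1; rw [Equiv.swap_apply_left]; exact hi
  let d : Fin (n + 1) → ZMod 2 := v' + Pi.single 0 1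
  have hd : d 0 = 0 := by simp [d, hv'0]; exact two_self 1
  refine ⟨AddEquiv.toMultiplicativeRight ((L.toAddEquiv.trans (swapCoord i)).trans (shear d hd)), ?_⟩
  apply Multiplicative.toAdd.injective
  show v' + v' 0 • d = Pi.single 0 1
  rw [hv'0, one_smul, ← add_assoc, add_self_vec, zero_add]

section Affine

variable {G : Type*} [Group G] (U M : Subgroup G) [hUn : U.Normal]

/-- Conjugation on the normal subgroup. -/
def conjU (g : G) (u : U) : U := ⟨g * u * g⁻¹, hUn.conj_mem u u.2 g⟩

theorem exists_decomp (hUM' : U ⊔ M = ⊤) (g : G) : ∃ u : U, (u : G)⁻¹ * g ∈ M := by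
  obtain ⟨a, ha, b, hb, e⟩ := mem_sup_of_normal_left.mp (hUM'.ge (mem_top g))
  exact ⟨⟨a, ha⟩, by rwa [← e, inv_mul_cancel_left]⟩

variable (hUM : U ⊓ M = ⊥) (hUM' : U ⊔ M = ⊤) (hc : ∀ a b : U, a * b = b * a)
  (ι : U ≃* Multiplicative (Fin (n + 1) → ZMod 2))

/-- The translation part. -/
noncomputable def uPart (g : G) : U := (exists_decomp U M hUM' g).choose

include hUM in
theorem uPart_unique {g : G} {u : U} (h : (u : G)⁻¹ * g ∈ M) : uPart U M hUM' g = u := by
  have h' := (exists_decomp U M hUM' g).choose_spec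
  refine Subtype.ext (inv_mul_eq_one.mp ?_)
  have hM : ((uPart U M hUM' g : U) : G)⁻¹ * u ∈ M := by
    have := mul_mem h' (inv_mem h)
    rwa [show ((exists_decomp U M hUM' g).choose : G)⁻¹ * g * ((u : G)⁻¹ * g)⁻¹ =
      ((exists_decomp U M hUM' g).choose : G)⁻¹ * u by group] at this
  rw [← mem_bot, ← hUM]
  exact Subgroup.mem_inf.mpr ⟨U.mul_mem (U.inv_mem (uPart U M hUM' g).2) u.2, hM⟩

include hUM hc in
theorem uPart_mul (g h : G) : uPart U M hUM' (g * h) = uPart U M hUM' g * conjU U g (uPart U M hUM' h) := by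
  refine uPart_unique U M hUM hUM' ?_
  have hg := (exists_decomp U M hUM' g).choose_spec
  have hh := (exists_decomp U M hUM' h).choose_spec
  set a := uPart U M hUM' g
  set b := uPart U M hUM' h
  have hm : (a : G)⁻¹ * g ∈ M := hg
  have e : (conjU U g b : G) = (a : G)⁻¹ * g * b * ((a : G)⁻¹ * g)⁻¹ := by
    have hcomm : (a : G) * (conjU U g b) = (conjU U g b) * a := congrArg Subtype.val (hc a (conjU U g b))
    calc (conjU U g b : G) = (a : G)⁻¹ * ((a : G) * (conjU U g b)) := by group
      _ = (a : G)⁻¹ * ((conjU U g b) * a) := by rw [hcomm]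
      _ = _ := by
          show (a : G)⁻¹ * (g * b * g⁻¹ * a) = _
          group
  show ((a : G) * (conjU U g b : G))⁻¹ * (g * h) ∈ M
  rw [e, show ((a : G) * ((a : G)⁻¹ * g * b * ((a : G)⁻¹ * g)⁻¹))⁻¹ * (g * h) =
    (a : G)⁻¹ * g * ((b : G)⁻¹ * h) by group]
  exact mul_mem hm hh

/-- Conjugation in coordinates. -/
def conjW (g : G) (w : Fin (n + 1) → ZMod 2) : Fin (n + 1) → ZMod 2 :=
  (ι (conjU U g (ι.symm (Multiplicative.ofAdd w)))).toAdd

theorem conjW_add (g : G) (a b : Fin (n + 1) → ZMod 2) : conjW U ι g (a + b) = conjW U ι g a + conjW U ι g b := by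
  have e : ∀ u v : U, conjU U g (u * v) = conjU U g u * conjU U g v := fun u v => Subtype.ext (by
    show g * (u * v) * g⁻¹ = g * u * g⁻¹ * (g * v * g⁻¹)
    group)
  simp only [conjW, ofAdd_add, map_mul, e, toAdd_mul]

theorem conjW_zero (g : G) : conjW U ι g 0 = 0 := by
  have e : conjU U g 1 = 1 := Subtype.ext (by show g * 1 * g⁻¹ = 1; group)
  simp [conjW, e]

theorem conjW_smul (g : G) (c : ZMod 2) (a : Fin (n + 1) → ZMod 2) : conjW U ι g (c • a) = c • conjW U ι g a := by
  rcases zmod_two_cases c with e | e <;> simp [e, conjW_zero]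

theorem conjW_mul (g h : G) (a : Fin (n + 1) → ZMod 2) : conjW U ι (g * h) a = conjW U ι g (conjW U ι h a) := by
  have e : ∀ u : U, conjU U (g * h) u = conjU U g (conjU U h u) := fun u => Subtype.ext (by
    show g * h * u * (g * h)⁻¹ = g * (h * u * h⁻¹) * g⁻¹
    group)
  simp [conjW, e]

/-- The affine action. -/
noncomputable def affAct (g : G) : (Fin (n + 2) → ZMod 2) →ₗ[ZMod 2] (Fin (n + 2) → ZMod 2) where
  toFun v := Fin.insertNth 1 (v 1)
    (conjW U ι g (Fin.removeNth 1 v) + v 1 • (ι (uPart U M hUM' g)).toAdd)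
  map_add' v w := by
    rw [← Fin.insertNth_add, show Fin.removeNth 1 (v + w) = Fin.removeNth 1 v + Fin.removeNth 1 w from rfl,
      conjW_add, Pi.add_apply, add_smul]
    congr 1
    abel
  map_smul' c v := by
    refine funext fun j => ?_
    refine Fin.succAboveCases 1 ?_ (fun j => ?_) j
    · simp
    · simp only [Fin.insertNth_apply_succAbove, Pi.smul_apply, smul_eq_mul, RingHom.id_apply, Pi.add_apply]
      rw [show Fin.removeNth 1 (c • v) = c • Fin.removeNth 1 v from rfl, conjW_smul, Pi.smul_apply, smul_eq_mul]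
      ring

include hUM hc in
theorem affAct_mul (g h : G) : affAct U M hUM' ι (g * h) = affAct U M hUM' ι g * affAct U M hUM' ι h := by
  refine LinearMap.ext fun v => ?_
  show Fin.insertNth 1 _ _ = affAct U M hUM' ι g (Fin.insertNth 1 _ _)
  simp only [affAct, LinearMap.coe_mk, AddHom.coe_mk, Fin.insertNth_apply_same, Fin.removeNth_insertNth]
  congr 1
  rw [conjW_mul, conjW_add, conjW_smul, uPart_mul U M hUM hUM' hc, map_mul, toAdd_mul, smul_add]
  have : conjW U ι g (ι (uPart U M hUM' h)).toAdd = (ι (conjU U g (uPart U M hUM' h))).toAdd := by simp [conjW]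
  rw [this]
  abel

include hUM in
theorem affAct_one : affAct U M hUM' ι 1 = 1 := by
  have h1 : uPart U M hUM' 1 = 1 := uPart_unique U M hUM hUM' (by simp [one_mem])
  refine LinearMap.ext fun v => ?_
  show Fin.insertNth 1 (v 1) _ = v
  have : ∀ w, conjW U ι 1 w = w := fun w => by
    have : ∀ u : U, conjU U 1 u = u := fun u => Subtype.ext (by simp [conjU])
    simp [conjW, this]
  rw [this, h1, map_one, toAdd_one, smul_zero, add_zero, Fin.insertNth_self_removeNth]

/-- The affine group as matrices. -/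
noncomputable def affMat : G →* Matrix (Fin (n + 2)) (Fin (n + 2)) (ZMod 2) where
  toFun g := LinearMap.toMatrix' (affAct U M hUM' ι g)
  map_one' := by rw [affAct_one U M hUM hUM' ι]; exact LinearMap.toMatrix'_one
  map_mul' g h := by rw [affAct_mul U M hUM hUM' hc ι]; exact LinearMap.toMatrix'_mul _ _

/-- The embedding. -/
noncomputable def affEmb : G →* SLn n :=
  (toSL (n + 2)).toMonoidHom.comp (affMat U M hUM hUM' hc ι).toHomUnits

theorem affEmb_mulVec (g : G) (v : Fin (n + 2) → ZMod 2) :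
    (affEmb U M hUM hUM' hc ι g).1 *ᵥ v = affAct U M hUM' ι g v := by
  show LinearMap.toMatrix' (affAct U M hUM' ι g) *ᵥ v = _
  rw [← Matrix.toLin'_apply, Matrix.toLin'_toMatrix']

theorem affEmb_injective (hfaith : ∀ m ∈ M, (∀ u ∈ U, m * u * m⁻¹ = u) → m = 1) :
    Function.Injective (affEmb U M hUM hUM' hc ι) := by
  refine (injective_iff_map_eq_one _).mpr fun g hg => ?_
  have hv : ∀ v, affAct U M hUM' ι g v = v := fun v => by
    rw [← affEmb_mulVec U M hUM hUM' hc ι g v, hg, sl_one, Matrix.one_mulVec]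
  have hu : uPart U M hUM' g = 1 := by
    have h := congrArg (Fin.removeNth 1) (hv (Pi.single 1 1))
    simp only [affAct, LinearMap.coe_mk, AddHom.coe_mk, Fin.removeNth_insertNth, Pi.single_eq_same, one_smul] at h
    have h0 : Fin.removeNth 1 (Pi.single 1 1 : Fin (n + 2) → ZMod 2) = 0 := funext fun j => by
      simp [Fin.removeNth]
    rw [h0, conjW_zero, zero_add] at h
    exact ι.injective (by rw [map_one]; exact Multiplicative.toAdd.injective h)
  have hgM : g ∈ M := by
    have h := (exists_decomp U M hUM' g).choose_spec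
    have hu' : (exists_decomp U M hUM' g).choose = 1 := hu
    simpa [hu'] using h
  refine hfaith g hgM fun u hu' => ?_
  have h := congrArg (Fin.removeNth 1) (hv (Fin.insertNth 1 0 (ι ⟨u, hu'⟩).toAdd))
  simp only [affAct, LinearMap.coe_mk, AddHom.coe_mk, Fin.removeNth_insertNth, Fin.insertNth_apply_same, zero_smul,
    add_zero, conjW, ofAdd_toAdd, MulEquiv.symm_apply_apply] at h
  exact congrArg Subtype.val (ι.injective (Multiplicative.toAdd.injective h))

theorem mem_range_affEmb (hfull : ∀ φ : U ≃* U, ∃ m ∈ M, ∀ u : U, ((φ u : U) : G) = m * u * m⁻¹) [Finite G]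
    {s : SLn n} (hs : InC s) : s ∈ (affEmb U M hUM hUM' hc ι).range := by
  obtain ⟨-, h10, -, h11, h1m⟩ := hs
  have hrow : ∀ v, (s.1 *ᵥ v) 1 = v 1 := fun v => by
    simp [Matrix.mulVec, dotProduct, sum_idx, h10, h11, h1m]
  let A : (Fin (n + 1) → ZMod 2) → (Fin (n + 1) → ZMod 2) := fun w => Fin.removeNth 1 (s.1 *ᵥ Fin.insertNth 1 0 w)
  have hA : ∀ a b, A (a + b) = A a + A b := fun a b => by
    simp only [A]
    rw [show (Fin.insertNth 1 (0 : ZMod 2) (a + b) : Fin (n + 2) → ZMod 2) =
      Fin.insertNth 1 0 a + Fin.insertNth 1 0 b by rw [← Fin.insertNth_add, add_zero], Matrix.mulVec_add]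
    rfl
  have hinj : Function.Injective A := fun a b h => by
    have e : s.1 *ᵥ Fin.insertNth 1 0 a = s.1 *ᵥ Fin.insertNth 1 0 b := by
      refine funext fun j => ?_
      refine Fin.succAboveCases 1 ?_ (fun j => congrFun h j) j
      rw [hrow, hrow, Fin.insertNth_apply_same, Fin.insertNth_apply_same]
    have e' := congrArg (fun v => (s⁻¹).1 *ᵥ v) e
    simp only [Matrix.mulVec_mulVec, ← sl_mul, inv_mul_cancel, sl_one, Matrix.one_mulVec] at e'
    exact funext fun j => by simpa using congrFun e' ((1 : Fin (n + 2)).succAbove j)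
  let ψ : U →* U :=
    { toFun := fun u => ι.symm (Multiplicative.ofAdd (A (ι u).toAdd))
      map_one' := by
        have h0 : A 0 = 0 := by simpa [add_self_vec] using hA 0 0
        simp [h0]
      map_mul' := fun u v => by simp [hA] }
  have hψ : Function.Bijective ψ := Finite.injective_iff_bijective.mp fun u v h => by
    have := hinj (Multiplicative.ofAdd.injective (ι.symm.injective h))
    exact ι.injective (Multiplicative.toAdd.injective this)
  obtain ⟨m, hm, hmu⟩ := hfull (MulEquiv.ofBijective ψ hψ)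
  set u₀ : U := ι.symm (Multiplicative.ofAdd (Fin.removeNth 1 (s.1 *ᵥ Pi.single 1 1))) with hu₀
  refine ⟨u₀ * m, Subtype.ext (Matrix.toLin'.injective (LinearMap.ext fun v => ?_))⟩
  simp only [Matrix.toLin'_apply, affEmb_mulVec]
  have hup : uPart U M hUM' (u₀ * m) = u₀ := uPart_unique U M hUM hUM' (by rwa [inv_mul_cancel_left])
  have hconj : ∀ w, conjW U ι (u₀ * m) w = A w := fun w => by
    have e : conjU U ((u₀ : G) * m) (ι.symm (Multiplicative.ofAdd w)) = ψ (ι.symm (Multiplicative.ofAdd w)) := by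
      refine Subtype.ext ?_
      set u := ι.symm (Multiplicative.ofAdd w)
      have h' : ((ψ u : U) : G) = m * u * m⁻¹ := hmu u
      have hcm : (u₀ : G) * (ψ u) = (ψ u) * u₀ := congrArg Subtype.val (hc u₀ (ψ u))
      show (u₀ : G) * m * u * ((u₀ : G) * m)⁻¹ = _
      rw [show (u₀ : G) * m * u * ((u₀ : G) * m)⁻¹ = (u₀ : G) * (m * u * m⁻¹) * (u₀ : G)⁻¹ by group, ← h', hcm,
        mul_inv_cancel_right]
    simp [conjW, e, ψ]
  have hdec : v = Fin.insertNth 1 0 (Fin.removeNth 1 v) + v 1 • Pi.single 1 1 := by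
    refine funext fun j => ?_
    refine Fin.succAboveCases 1 ?_ (fun j => ?_) j <;> simp [Fin.removeNth]
  show Fin.insertNth (α := fun _ => ZMod 2) 1 (v 1) _ = _
  rw [hup, hconj]
  refine funext fun j => ?_
  refine Fin.succAboveCases 1 ?_ (fun j => ?_) j
  · rw [Fin.insertNth_apply_same, hrow]
  · rw [Fin.insertNth_apply_succAbove]
    conv_rhs => rw [hdec, Matrix.mulVec_add, Matrix.mulVec_smul]
    simp [A, hu₀, Fin.removeNth]

theorem affEmb_z {z : U} (hz : ι z = Multiplicative.ofAdd (Pi.single 0 1)) :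
    affEmb U M hUM hUM' hc ι (z : G) = tz n := by
  refine Subtype.ext (Matrix.toLin'.injective (LinearMap.ext fun v => ?_))
  simp only [Matrix.toLin'_apply, affEmb_mulVec]
  have hup : uPart U M hUM' (z : G) = z := uPart_unique U M hUM hUM' (by rw [inv_mul_cancel]; exact one_mem _)
  have hconj : ∀ w, conjW U ι (z : G) w = w := fun w => by
    have : ∀ u : U, conjU U (z : G) u = u := fun u => Subtype.ext (by
      show (z : G) * u * (z : G)⁻¹ = u
      rw [congrArg Subtype.val (hc z u) |>.trans rfl |> fun e => (show (z : G) * u = u * z from e)]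
      group)
    simp [conjW, this]
  show Fin.insertNth (α := fun _ => ZMod 2) 1 (v 1) _ = _
  rw [hconj, hup, hz]
  refine funext fun j => ?_
  have e : ∀ j, ((tz n).1 *ᵥ v) j = v j + if j = 0 then v 1 else 0 := fun j => by
    simp [Matrix.mulVec, dotProduct, tz_apply, add_mul, Finset.sum_add_distrib, ite_and]
  rw [e]
  refine Fin.succAboveCases 1 ?_ (fun j => ?_) j
  · simp
  · rw [Fin.insertNth_apply_succAbove]
    have h0 : (1 : Fin (n + 2)).succAbove j = 0 ↔ j = 0 := by
      refine ⟨fun h => ?_, fun h => by subst h; rfl⟩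
      exact Fin.succAbove_right_injective (h.trans (show (0 : Fin (n + 2)) = (1 : Fin (n + 2)).succAbove 0 from rfl))
    simp [Fin.removeNth, h0, Pi.single_apply, mul_ite]

end Affine

theorem transport {G : Type*} [Group G] [Finite G] (f : G →* SLn n) (hf : Function.Injective f) (hn : 1 ≤ n)
    {z : G} (hz : f z = tz n) (hr : cz n ≤ f.range) (Q : Subgroup G)
    (hQ : Q = core (centralizer ({z} : Set G))) :
    Cfsg.IsExtraspecial 2 Q ∧ Nat.card Q = 2 ^ (2 * n + 1) ∧
      (∃ E : Subgroup G, E ≤ Q ∧ Cfsg.IsElementaryAbelian 2 E ∧ Nat.card E = 2 ^ (n + 1)) ∧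
      Cfsg.IsLargeExtraspecial Q ∧
      ∃ K : Subgroup G, K ≤ centralizer ({z} : Set G) ∧ Q ⊓ K = ⊥ ∧ Q ⊔ K = centralizer ({z} : Set G) ∧
        Nonempty (K ≃* GL (Fin n) (ZMod 2)) := by
  have hmem : ∀ c, c ∈ centralizer ({z} : Set G) ↔ f c ∈ cz n := fun c => by
    rw [mem_centralizer_singleton_iff, mem_centralizer_singleton_iff, ← hz, ← map_mul, ← map_mul, hf.eq_iff]
  have hC : centralizer ({z} : Set G) = (cz n).comap f := Subgroup.ext hmem
  have hmapC : (centralizer ({z} : Set G)).map f = cz n := by rw [hC, map_comap_eq_self hr]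
  have hcard : ∀ H : Subgroup (SLn n), H ≤ cz n → Nat.card (H.comap f) = Nat.card H := fun H hH => by
    rw [← Subgroup.card_map_of_injective hf, map_comap_eq_self (hH.trans hr)]
  have hQeq : Q = (radical n).comap f := by
    rw [hQ]
    refine le_antisymm ?_ ?_
    · rw [← map_le_iff_le_comap, ← core_eq]
      refine le_core ((Subgroup.map_mono (core_le _)).trans hmapC.le) ((core_isP _).map f) ?_
      rw [← hmapC]
      exact (Subgroup.map_mono (core_normalized _)).trans (le_normalizer_map_of _ f)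
    · refine le_core ((Subgroup.comap_mono radical_le).trans hC.ge) (IsPGroup.of_card ((hcard _ radical_le).trans card_radical)) ?_
      rw [hC]
      intro c hc
      refine mem_normalizer_iff.mpr fun x => ?_
      rw [mem_comap, mem_comap, map_mul, map_mul, map_inv]
      exact mem_normalizer_iff.mp (radical_normalized hc) (f x)
  subst hQeq
  have hx := x2 hn
  have hzQ : z ∈ (radical n).comap f := by rw [mem_comap, hz]; exact hx.mem
  have hlift : ∀ {a b : G}, f a = f b → a = b := fun h => hf h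
  have hcases : ∀ a : G, (f a = 1 ∨ f a = tz n) → a = 1 ∨ a = z := fun a h =>
    h.imp (fun e => hlift (e.trans (map_one f).symm)) fun e => hlift (e.trans hz.symm)
  have hsur : ∀ y ∈ radical n, ∃ a ∈ (radical n).comap f, f a = y := fun y hy => by
    obtain ⟨a, rfl⟩ := hr (radical_le hy)
    exact ⟨a, hy, rfl⟩
  have hX : X2 ((radical n).comap f) z :=
    { mem := hzQ
      ne := fun e => hx.ne (by rw [← hz, e, map_one])
      zz := hlift (by rw [map_mul, hz, hx.zz, map_one])
      isP := IsPGroup.of_card ((hcard _ radical_le).trans card_radical)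
      central := fun q hq => hlift (by rw [map_mul, map_mul, hz]; exact (hx.central _ hq).eq)
      comm := fun a ha b hb => hcases _ (by rw [map_commutatorElement]; exact hx.comm _ ha _ hb)
      sq := fun a ha => hcases _ (by rw [map_mul]; exact hx.sq _ ha)
      cen := fun c hc hall => hcases _ (hx.cen _ hc fun y hy => by
        obtain ⟨a, ha, rfl⟩ := hsur y hy
        exact (hall a ha).map f) }
  have hE : Cfsg.IsExtraspecial 2 ((radical n).comap f) := by
    refine isExtraspecial_of hX.isP hX.mem hX.ne hX.zz hX.central hX.comm hX.sq hX.cen ?_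
    by_contra hall
    push Not at hall
    obtain ⟨a, ha, hane⟩ : ∃ a ∈ radical n, a ≠ 1 ∧ a ≠ tz n :=
      ⟨radElt (Pi.single ⟨0, hn⟩ 1) 0 0, (radElt_spec _ _ _).1, fun e => by
        simpa [(radElt_spec _ _ _).2.1, one_coords.1] using congrFun (congrArg va e) ⟨0, hn⟩, fun e => by
        simpa [(radElt_spec _ _ _).2.1, tz_coords.1] using congrFun (congrArg va e) ⟨0, hn⟩⟩
    refine (hx.cen a ha fun y hy => ?_).elim hane.1 hane.2
    obtain ⟨b, hb, rfl⟩ := hsur y hy
    obtain ⟨a', ha', rfl⟩ := hsur a ha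
    exact (hall b hb a' ha').map f
  obtain ⟨hl1, hl2, hl3, hl4⟩ := isLarge hn
  obtain ⟨z', hz', hcen⟩ := exists_x2 hE
  have hzz' : z' = z := (hX.cen z' hz'.mem (fun a ha => hz'.central a ha)).resolve_left hz'.ne
  rw [hzz'] at hcen
  have hCQ : centralizer ((radical n).comap f : Set G) = zpowers z := by
    refine le_antisymm (fun c hc => ?_) (zpowers_le.mpr (mem_centralizer_iff.mpr fun q hq => (hX.central q hq).eq))
    have h : f c ∈ centralizer (radical n : Set (SLn n)) := mem_centralizer_iff.mpr fun y hy => by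
      obtain ⟨a, ha, rfl⟩ := hsur y hy
      rw [← map_mul, ← map_mul, mem_centralizer_iff.mp hc a ha]
    have h' := centralizer_radical hn h
    rcases hcases c ((mem_zpowers_two hx.zz).mp h') with e | e <;> rw [e]
    exacts [one_mem _, mem_zpowers _]
  obtain ⟨s1, s2, s3, ⟨e⟩⟩ := split n
  refine ⟨hE, (hcard _ radical_le).trans card_radical, ⟨(centreGroup n).comap f, Subgroup.comap_mono centreGroup_le,
    ⟨⟨⟨fun a b => Subtype.ext (hlift ?_)⟩⟩, fun a ha => hlift ?_⟩,
    (hcard _ (centreGroup_le.trans radical_le)).trans centreGroup_elementary.2⟩,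
    ⟨hE, hCQ.trans hcen.symm, ?_, fun K hK hQK => ?_⟩, (sect n).range.comap f, ?_, ?_, ?_, ?_⟩
  · show f (a.1 * b.1) = f (b.1 * a.1)
    rw [map_mul, map_mul]
    exact congrArg Subtype.val (centreGroup_elementary.1.1.is_comm.comm ⟨f a, a.2⟩ ⟨f b, b.2⟩)
  · rw [map_pow, map_one]
    exact centreGroup_elementary.1.2 _ ha
  · rw [hcen, Cfsg.Lib.Coprime.centralizer_zpowers]
    intro c hc
    refine mem_normalizer_iff.mpr fun x => ?_
    rw [mem_comap, mem_comap, map_mul, map_mul, map_inv]
    exact mem_normalizer_iff.mp (radical_normalized ((hmem c).mp hc)) (f x)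
  · have : K.map f = ⊥ := hl4 _ (by rwa [Subgroup.card_map_of_injective hf]) fun y hy => by
      obtain ⟨a, ha, rfl⟩ := hsur y hy
      exact le_normalizer_map_of K f (mem_map_of_mem f (hQK ha))
    exact (Subgroup.map_eq_bot_iff_of_injective K hf).mp this
  · rw [hC]; exact Subgroup.comap_mono s1
  · rw [← Subgroup.comap_inf, s2]
    exact (eq_bot_iff_forall _).mpr fun x hx => hlift (by rw [map_one]; exact hx)
  · refine Subgroup.map_injective hf ?_
    rw [Subgroup.map_sup, map_comap_eq_self (radical_le.trans hr), map_comap_eq_self (s1.trans hr), s3, hmapC]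
  · refine ⟨((Subgroup.equivMapOfInjective _ f hf).trans (MulEquiv.subgroupCongr ?_)).trans e⟩
    exact map_comap_eq_self (s1.trans hr)
where
  le_normalizer_map_of {G H : Type _} [Group G] [Group H] (S : Subgroup G) (f : G →* H) :
      (normalizer (S : Set G)).map f ≤ normalizer (S.map f : Set H) := by
    have h1 : ∀ g ∈ normalizer (S : Set G), ∀ x ∈ S.map f, f g * x * (f g)⁻¹ ∈ S.map f := by
      rintro g hg _ ⟨x, hx, rfl⟩
      exact ⟨g * x * g⁻¹, (mem_normalizer_iff.mp hg x).mp hx, by simp⟩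
    rintro _ ⟨g, hg, rfl⟩
    refine mem_normalizer_iff.mpr fun y => ⟨h1 g hg y, fun h => ?_⟩
    have := h1 g⁻¹ (inv_mem hg) _ h
    simpa [mul_assoc] using this

theorem s5423 {G : Type*} [Group G] [Finite G] (n : ℕ) (hn : 1 ≤ n) (U M : Subgroup G) [U.Normal]
    (hU : Cfsg.IsElementaryAbelian 2 U) (hUcard : Nat.card U = 2 ^ (n + 1)) (hUM : U ⊓ M = ⊥) (hUM' : U ⊔ M = ⊤)
    (hfaith : ∀ m ∈ M, (∀ u ∈ U, m * u * m⁻¹ = u) → m = 1)
    (hfull : ∀ φ : U ≃* U, ∃ m ∈ M, ∀ u : U, ((φ u : U) : G) = m * u * m⁻¹)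
    (Z : Subgroup G) (hZU : Z ≤ U) (hZ : Nat.card Z = 2) (Q : Subgroup G)
    (hQ : Q = core (centralizer (Z : Set G))) :
    Cfsg.IsExtraspecial 2 Q ∧ Nat.card Q = 2 ^ (2 * n + 1) ∧
      (∃ E : Subgroup G, E ≤ Q ∧ Cfsg.IsElementaryAbelian 2 E ∧ Nat.card E = 2 ^ (n + 1)) ∧
      Cfsg.IsLargeExtraspecial Q ∧
      ∃ K : Subgroup G, K ≤ centralizer (Z : Set G) ∧ Q ⊓ K = ⊥ ∧ Q ⊔ K = centralizer (Z : Set G) ∧
        Nonempty (K ≃* GL (Fin n) (ZMod 2)) := by
  obtain ⟨⟨z, hz⟩, hz1, hzu⟩ := (Nat.card_eq_two_iff' (1 : Z)).mp hZ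
  have hne : z ≠ 1 := fun e => hz1 (Subtype.ext e)
  have hZeq : centralizer (Z : Set G) = centralizer ({z} : Set G) := by
    refine le_antisymm (centralizer_le (Set.singleton_subset_iff.mpr hz)) fun c hc => mem_centralizer_iff.mpr fun x hx => ?_
    by_cases h1 : (⟨x, hx⟩ : Z) = 1
    · rw [show x = 1 from congrArg Subtype.val h1]; simp
    · rw [show x = z from congrArg Subtype.val (hzu _ h1)]
      exact (mem_centralizer_singleton_iff.mp hc).symm
  rw [hZeq] at hQ ⊢
  have hc : ∀ a b : U, a * b = b * a := fun a b => hU.1.is_comm.comm a b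
  obtain ⟨ι, hι⟩ := exists_coords hc (fun a => Subtype.ext (by
    show (a : G) * a = 1
    rw [← pow_two]; exact hU.2 a a.2)) hUcard (z := (⟨z, hZU hz⟩ : U)) (fun e => hne (congrArg Subtype.val e))
  refine transport (affEmb U M hUM hUM' hc ι) (affEmb_injective U M hUM hUM' hc ι hfaith) hn
    (affEmb_z U M hUM hUM' hc ι hι) (fun s hs => mem_range_affEmb U M hUM hUM' hc ι hfull (mem_cz.mp hs)) Q hQ

end Cfsg.Lib.LargeExtra.Transvection
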